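import Mathlib

set_option autoImplicit false

namespace Cfsg.Agent.Lib.Helper21.BSQ

universe u

def IsBStar (G : Type u) [Group G] : Prop :=
  ∀ A B : Subgroup G, IsMulCommutative ↥A → IsMulCommutative ↥B → Nat.card ↥A = Nat.card ↥B →
    ∃ g : G, B = A.map (MulAut.conj g).toMonoidHom

end Cfsg.Agent.Lib.Helper21.BSQ
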